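import Cfsg.Agent.H910.TC.SpTab

/-!
# S2464, the group `PSp_4(3)`: every nonidentity element is a product of two elements of order five (helper910)
-/

set_option autoImplicit false
set_option maxRecDepth 20000

namespace Cfsg.Agent.H910.TC

open Matrix Cfsg.Agent.H140.TC.Sp Cfsg.Agent.H140.TC Cfsg.Agent.H649.PwSp Cfsg.Agent.H140.OreO

/-- the matrix -/
def toM (x : M4) : Matrix (Fin 2 ⊕ Fin 2) (Fin 2 ⊕ Fin 2) (ZMod 3) :=
  fromBlocks !![(x.a : ZMod 3), x.b; x.e, x.f] !![(x.c : ZMod 3), x.d; x.g, x.h]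
    !![(x.i : ZMod 3), x.j; x.m, x.n] !![(x.k : ZMod 3), x.l; x.o, x.p]

theorem cast_mod (n : ℕ) : ((n % 3 : ℕ) : ZMod 3) = n := ZMod.natCast_mod n 3

theorem toM_mul (x y : M4) : toM (mul4 x y) = toM x * toM y := by
  rw [toM, toM, toM, fromBlocks_multiply, fromBlocks_inj]
  refine ⟨?_, ?_, ?_, ?_⟩ <;>
  · ext i j
    fin_cases i <;> fin_cases j <;>
    · simp only [mul4, cast_mod, Matrix.add_apply, Matrix.mul_apply, Fin.sum_univ_two, Matrix.of_apply,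
        Matrix.cons_val', Matrix.cons_val_zero, Matrix.cons_val_one, Matrix.cons_val_fin_one, Fin.zero_eta, Fin.mk_one]
      push_cast
      ring

theorem beq_cast {n : ℕ} (h : Nat.beq (n % 3) 0 = true) : ((n : ℕ) : ZMod 3) = 0 := by
  rw [← cast_mod, Nat.eq_of_beq_eq_true h, Nat.cast_zero]

/-- the meaning of the check -/
theorem ok5_spec {s : ℕ} {x y z w : M4} (h : ok5 s x y z w = true) :
    1 + toM y + toM w + (s : ZMod 3) • (toM x + toM z) = 0 := by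
  simp only [ok5, Bool.and_eq_true] at h
  obtain ⟨⟨⟨⟨⟨⟨⟨⟨⟨⟨⟨⟨⟨⟨⟨h1, h2⟩, h3⟩, h4⟩, h5⟩, h6⟩, h7⟩, h8⟩, h9⟩, h10⟩, h11⟩, h12⟩, h13⟩, h14⟩, h15⟩, h16⟩ := h
  have e1 := beq_cast h1
  have e2 := beq_cast h2
  have e3 := beq_cast h3
  have e4 := beq_cast h4
  have e5 := beq_cast h5
  have e6 := beq_cast h6
  have e7 := beq_cast h7
  have e8 := beq_cast h8
  have e9 := beq_cast h9
  have e10 := beq_cast h10
  have e11 := beq_cast h11
  have e12 := beq_cast h12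
  have e13 := beq_cast h13
  have e14 := beq_cast h14
  have e15 := beq_cast h15
  have e16 := beq_cast h16
  push_cast at e1 e2 e3 e4 e5 e6 e7 e8 e9 e10 e11 e12 e13 e14 e15 e16
  rw [toM, toM, toM, toM, ← fromBlocks_one, ← fromBlocks_zero]
  simp only [fromBlocks_add, fromBlocks_smul, fromBlocks_inj]
  refine ⟨?_, ?_, ?_, ?_⟩
  · ext i j
    fin_cases i <;> fin_cases j
    · simpa using e1
    · simpa using e2
    · simpa using e5
    · simpa using e6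
  · ext i j
    fin_cases i <;> fin_cases j
    · simpa using e3
    · simpa using e4
    · simpa using e7
    · simpa using e8
  · ext i j
    fin_cases i <;> fin_cases j
    · simpa using e9
    · simpa using e10
    · simpa using e13
    · simpa using e14
  · ext i j
    fin_cases i <;> fin_cases j
    · simpa using e11
    · simpa using e12
    · simpa using e15
    · simpa using e16

theorem ok4_spec {s : ℕ} {x : M4} (h : ok4 s x = true) :
    1 + toM x * toM x + toM x * toM x * (toM x * toM x) + (s : ZMod 3) • (toM x + toM x * toM x * toM x) = 0 := by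
  have h1 := ok5_spec h
  simp only [toM_mul] at h1
  exact h1

/-- the central element `-1` -/
def zc : G 2 (ZMod 3) := ⟨-1, by
  rw [SymplecticGroup.mem_iff, transpose_neg, transpose_one]
  simp⟩

theorem zc_center : zc ∈ Subgroup.center (G 2 (ZMod 3)) := by
  rw [Subgroup.mem_center_iff]
  intro g
  apply Subtype.ext
  change g.1 * (-1) = (-1) * g.1
  simp

theorem five {x : G 2 (ZMod 3)} (h : 1 + x.1 * x.1 + x.1 * x.1 * (x.1 * x.1) + (x.1 + x.1 * x.1 * x.1) = 0) :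
    orderOf x = 5 := by
  have : Fact (Nat.Prime 5) := ⟨by norm_num⟩
  have h5 : x ^ 5 = 1 := by
    apply Subtype.ext
    have h1 : (x ^ 5).1 = x.1 * x.1 * (x.1 * x.1) * x.1 := by
      have : x ^ 5 = x * x * (x * x) * x := by simp only [pow_succ, pow_zero, one_mul, mul_assoc]
      rw [this]
      rfl
    rw [h1]
    have h2 : x.1 * x.1 * (x.1 * x.1) * x.1 - 1 = (1 + x.1 * x.1 + x.1 * x.1 * (x.1 * x.1) + (x.1 + x.1 * x.1 * x.1)) * (x.1 - 1) := by
      noncomm_ring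
    rw [h, Matrix.zero_mul, sub_eq_zero] at h2
    exact h2
  refine orderOf_eq_prime h5 ?_
  rintro rfl
  have h1 := congrFun (congrFun h (Sum.inl 0)) (Sum.inl 0)
  revert h1
  change (1 + 1 * 1 + 1 * 1 * (1 * 1) + (1 + 1 * 1 * 1) : Matrix (Fin 2 ⊕ Fin 2) (Fin 2 ⊕ Fin 2) (ZMod 3)) (Sum.inl 0) (Sum.inl 0) = 0 → False
  simp only [Matrix.mul_one, Matrix.add_apply, Matrix.one_apply_eq]
  decide

theorem five_neg {x : G 2 (ZMod 3)} (h : 1 + x.1 * x.1 + x.1 * x.1 * (x.1 * x.1) + (2 : ZMod 3) • (x.1 + x.1 * x.1 * x.1) = 0) :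
    orderOf (zc * x) = 5 := by
  apply five
  have e : (zc * x).1 = -x.1 := by
    change (-1) * x.1 = -x.1
    simp
  have h2 : (2 : ZMod 3) = -1 := by decide
  rw [h2] at h
  rw [e, ← h]
  simp only [neg_mul_neg, Matrix.mul_neg, neg_smul, one_smul]
  abel

/-- the elements of the table -/
theorem tab_mem : ∀ i < 17, ∃ u : G 2 (ZMod 3), u.1 = toM (tabU i) ∧ orderOf u = 5 := by
  have hm : ∀ i < 17, toM (tabU i) ∈ Matrix.symplecticGroup (Fin 2) (ZMod 3) := by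
    intro i hi
    rw [toM, mem_iff]
    revert i
    decide +kernel
  intro i hi
  refine ⟨⟨_, hm i hi⟩, rfl, five ?_⟩
  have h1 := ok4_spec (tab_all i hi)
  rw [Nat.cast_one, one_smul] at h1
  exact h1

/-- the normal form -/
theorem gL_eq (t a b c d e f : ZMod 3) {K : GL (Fin 2) (ZMod 3)} (hK : (K : Matrix (Fin 2) (Fin 2) (ZMod 3)) = cA t)
    (hT : (cS a b c)ᵀ = cS a b c) (hS : (cS d e f)ᵀ = cS d e f) :
    toM (gL t.val a.val b.val c.val d.val e.val f.val) = (lo (cS a b c) hT * lv K * up (cS d e f) hS).1 := by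
  have h2 : (2 : ZMod 3) = -1 := by decide
  have hi : ((K⁻¹ : GL (Fin 2) (ZMod 3)) : Matrix (Fin 2) (Fin 2) (ZMod 3)) = !![t, 1; -1, 0] := by
    have h3 : (K : Matrix (Fin 2) (Fin 2) (ZMod 3)) * !![t, 1; -1, 0] = 1 := by
      rw [hK, cA]
      ext i j
      fin_cases i <;> fin_cases j <;> simp [Matrix.mul_apply, Fin.sum_univ_two]
    have h4 : ((K⁻¹ : GL (Fin 2) (ZMod 3)) : Matrix (Fin 2) (Fin 2) (ZMod 3)) * (K : Matrix (Fin 2) (Fin 2) (ZMod 3)) = 1 := K.inv_mul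
    calc ((K⁻¹ : GL (Fin 2) (ZMod 3)) : Matrix (Fin 2) (Fin 2) (ZMod 3)) =
        ((K⁻¹ : GL (Fin 2) (ZMod 3)) : Matrix (Fin 2) (Fin 2) (ZMod 3)) * ((K : Matrix (Fin 2) (Fin 2) (ZMod 3)) * !![t, 1; -1, 0]) := by
          rw [h3, Matrix.mul_one]
      _ = _ := by rw [← Matrix.mul_assoc, h4, Matrix.one_mul]
  change _ = fromBlocks 1 0 (cS a b c) 1 * fromBlocks (K : Matrix (Fin 2) (Fin 2) (ZMod 3)) 0 0
        ((K⁻¹ : GL (Fin 2) (ZMod 3)) : Matrix (Fin 2) (Fin 2) (ZMod 3))ᵀ * fromBlocks 1 (cS d e f) 0 1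
  rw [fromBlocks_multiply, fromBlocks_multiply, toM, fromBlocks_inj, hi, hK]
  refine ⟨?_, ?_, ?_, ?_⟩ <;>
  · ext i j
    fin_cases i <;> fin_cases j <;>
    · simp [gL, cA, cS, h2]
      try ring

theorem val_eq (x : ZMod 3) : ∃ k : Fin 3, k.val = x.val := ⟨⟨x.val, ZMod.val_lt x⟩, rfl⟩

/-- the normal forms -/
theorem fac_normal (t : ZMod 3) {A : GL (Fin 2) (ZMod 3)} (hA : (A : Matrix (Fin 2) (Fin 2) (ZMod 3)) = cA t)
    {S : Matrix (Fin 2) (Fin 2) (ZMod 3)} (hS : Sᵀ = S) (hS0 : S ≠ 0) {l : G 2 (ZMod 3)} (hl : l ∈ Lo 2 (ZMod 3)) :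
    ∃ u v z : G 2 (ZMod 3), orderOf u = 5 ∧ orderOf v = 5 ∧ z ∈ Subgroup.center (G 2 (ZMod 3)) ∧
      l * lv A * up S hS = z * (u * v) := by
  obtain ⟨T, hT, rfl⟩ := hl
  obtain ⟨a, b, c, rfl⟩ := exists_cS hT
  obtain ⟨d, e, f, rfl⟩ := exists_cS hS
  have hne : ¬ (d.val = 0 ∧ e.val = 0 ∧ f.val = 0) := by
    rintro ⟨h1, h2, h3⟩
    rw [ZMod.val_eq_zero] at h1 h2 h3
    subst h1 h2 h3
    apply hS0
    ext i j
    fin_cases i <;> fin_cases j <;> rfl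
  have hg := gL_eq t a b c d e f hA hT hS
  have hchk : chk t.val a.val b.val c.val d.val e.val f.val = true :=
    chk_all ⟨t.val, ZMod.val_lt t⟩ ⟨a.val, ZMod.val_lt a⟩ ⟨b.val, ZMod.val_lt b⟩ ⟨c.val, ZMod.val_lt c⟩
      ⟨d.val, ZMod.val_lt d⟩ ⟨e.val, ZMod.val_lt e⟩ ⟨f.val, ZMod.val_lt f⟩ hne
  obtain ⟨g, hgd⟩ : ∃ g, g = lo (cS a b c) hT * lv A * up (cS d e f) hS := ⟨_, rfl⟩
  rw [← hgd] at hg
  rw [← hgd, chk] at *
  generalize ent t.val a.val b.val c.val d.val e.val f.val = n at hchk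
  obtain ⟨u, hu, hu5⟩ : ∃ u : G 2 (ZMod 3), u.1 = toM (tabU (n / 2)) ∧ orderOf u = 5 := by
    rcases Nat.lt_or_ge (n / 2) 17 with h | h
    · exact tab_mem _ h
    · obtain ⟨u, h1, h2⟩ := tab_mem 16 (by norm_num)
      refine ⟨u, ?_, h2⟩
      rw [h1]
      congr 1
      obtain ⟨k, hk⟩ := Nat.exists_eq_add_of_le h
      rw [hk, Nat.add_comm]
      rfl
  have hw : toM (mul4 (tabU (n / 2)) (gL t.val a.val b.val c.val d.val e.val f.val)) = (u * g).1 := by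
    rw [toM_mul, hg, ← hu]
    rfl
  have h1 := ok4_spec hchk
  rw [hw] at h1
  rcases Nat.mod_two_eq_zero_or_one n with h2 | h2
  · rw [h2, Nat.add_zero, Nat.cast_one, one_smul] at h1
    refine ⟨u⁻¹, u * g, 1, by rw [orderOf_inv, hu5], five h1, one_mem _, by group⟩
  · rw [h2] at h1
    refine ⟨u⁻¹, zc * (u * g), zc, by rw [orderOf_inv, hu5], five_neg (by exact_mod_cast h1), zc_center, ?_⟩
    have h3 : zc * zc = 1 := by
      apply Subtype.ext
      change (-1 : Matrix (Fin 2 ⊕ Fin 2) (Fin 2 ⊕ Fin 2) (ZMod 3)) * (-1) = 1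
      simp
    have h4 := Subgroup.mem_center_iff.1 zc_center
    have h5 : u⁻¹ * (zc * (u * g)) = zc * g := by
      rw [← mul_assoc, h4, mul_assoc, inv_mul_cancel_left]
    rw [h5, ← mul_assoc, h3, one_mul]

/-- the elements of order five are conjugate -/
theorem conj_five {x y : G 2 (ZMod 3)} (hx : orderOf x = 5) (hy : orderOf y = 5) {c : G 2 (ZMod 3)}
    (hc : c * x * c⁻¹ = x ^ 2) : ∃ u : G 2 (ZMod 3), y = u * x * u⁻¹ := by
  have : Fact (Nat.Prime 5) := ⟨by norm_num⟩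
  have hcard : Nat.card (G 2 (ZMod 3)) = 51840 := by
    rw [S0245.result (F := ZMod 3) (q := 3) (ZMod.card 3) 2]
    decide
  have hf : (Nat.card (G 2 (ZMod 3))).factorization 5 = 1 := by
    rw [hcard]
    have h1 : 51840 = 5 ^ 1 * 10368 := by norm_num
    rw [h1, Nat.factorization_mul (by norm_num) (by norm_num), Finsupp.add_apply,
      Nat.Prime.factorization_pow (by norm_num), Finsupp.single_eq_same,
      Nat.factorization_eq_zero_of_not_dvd (by norm_num)]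
  let P : Sylow 5 (G 2 (ZMod 3)) := Sylow.ofCard (Subgroup.zpowers x) (by rw [Nat.card_zpowers, hx, hf, pow_one])
  let Q : Sylow 5 (G 2 (ZMod 3)) := Sylow.ofCard (Subgroup.zpowers y) (by rw [Nat.card_zpowers, hy, hf, pow_one])
  obtain ⟨g, hg⟩ := MulAction.exists_smul_eq (G 2 (ZMod 3)) P Q
  have hyQ : y ∈ (Q : Subgroup (G 2 (ZMod 3))) := Subgroup.mem_zpowers y
  rw [← hg, Sylow.smul_def] at hyQ
  obtain ⟨w, hw, hwy⟩ := hyQ
  obtain ⟨k, hk⟩ : ∃ k : ℕ, x ^ k = w := by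
    have h1 : w ∈ Subgroup.zpowers x := hw
    rw [← mem_powers_iff_mem_zpowers] at h1
    exact h1
  have hwy' : y = g * w * g⁻¹ := hwy.symm
  have hw1 : w ≠ 1 := by
    rintro rfl
    rw [mul_one, mul_inv_cancel] at hwy'
    rw [hwy', orderOf_one] at hy
    omega
  have hx5 : x ^ 5 = 1 := by rw [← hx, pow_orderOf_eq_one]
  have hk5 : w = x ^ (k % 5) := by rw [← hk, ← hx, pow_mod_orderOf]
  -- the powers
  have hp : ∀ m : ℕ, c ^ m * x * (c ^ m)⁻¹ = x ^ 2 ^ m := by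
    intro m
    induction m with
    | zero => simp
    | succ m ih =>
      have h1 : c ^ (m + 1) * x * (c ^ (m + 1))⁻¹ = c * (c ^ m * x * (c ^ m)⁻¹) * c⁻¹ := by
        rw [pow_succ']; group
      rw [h1, ih, ← conj_pow, hc, ← pow_mul, pow_succ' 2 m]
  obtain ⟨m, hm⟩ : ∃ m : ℕ, w = x ^ 2 ^ m := by
    have h1 : k % 5 < 5 := Nat.mod_lt _ (by norm_num)
    have h2 : k % 5 ≠ 0 := fun h => hw1 (by rw [hk5, h, pow_zero])
    have h3 : k % 5 = 1 ∨ k % 5 = 2 ∨ k % 5 = 3 ∨ k % 5 = 4 := by omega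
    rcases h3 with h | h | h | h
    · exact ⟨0, by rw [hk5, h]; rfl⟩
    · exact ⟨1, by rw [hk5, h]; rfl⟩
    · refine ⟨3, ?_⟩
      rw [hk5, h, show 2 ^ 3 = 5 + 3 by norm_num, pow_add, hx5, one_mul]
    · exact ⟨2, by rw [hk5, h]; rfl⟩
  refine ⟨g * c ^ m, ?_⟩
  rw [hwy', hm, ← hp]
  group

/-- the fixed element of order five -/
def mX : M4 := ⟨2, 2, 2, 0, 0, 1, 2, 1, 0, 2, 0, 2, 1, 2, 2, 2⟩

/-- an element with `c x c⁻¹ = x ^ 2` -/
def mC : M4 := ⟨2, 2, 0, 0, 1, 2, 0, 0, 2, 1, 1, 1, 0, 2, 2, 1⟩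

theorem mX_ok : ok4 1 mX = true := by decide +kernel

theorem mC_ok : mul4 mC mX = mul4 (mul4 mX mX) mC := by
  simp only [mC, mX, mul4]

theorem exists_fix : ∃ x c : G 2 (ZMod 3), orderOf x = 5 ∧ c * x * c⁻¹ = x ^ 2 := by
  have hx : toM mX ∈ Matrix.symplecticGroup (Fin 2) (ZMod 3) := by
    rw [toM, mem_iff]
    decide +kernel
  have hc : toM mC ∈ Matrix.symplecticGroup (Fin 2) (ZMod 3) := by
    rw [toM, mem_iff]
    decide +kernel
  refine ⟨⟨_, hx⟩, ⟨_, hc⟩, five ?_, ?_⟩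
  · have h1 := ok4_spec mX_ok
    rw [Nat.cast_one, one_smul] at h1
    exact h1
  · rw [mul_inv_eq_iff_eq_mul, pow_two]
    apply Subtype.ext
    change toM mC * toM mX = toM mX * toM mX * toM mC
    rw [← toM_mul, ← toM_mul, ← toM_mul, mC_ok]

/-- **`Sp_4(3)`** -/
theorem two_sp43 : ∃ x c : G 2 (ZMod 3), orderOf x = 5 ∧ c * x * c⁻¹ = x ^ 2 ∧
    ∀ g : G 2 (ZMod 3), g ∉ Subgroup.center (G 2 (ZMod 3)) →
      ∃ u v z : G 2 (ZMod 3), z ∈ Subgroup.center (G 2 (ZMod 3)) ∧ g = z * ((u * x * u⁻¹) * (v * x * v⁻¹)) := by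
  obtain ⟨x, c, hx, hc⟩ := exists_fix
  refine ⟨x, c, hx, hc, fun g hg => ?_⟩
  obtain ⟨t, A, C₁, D₁, E₁, htg, hC, hAdet, hAns⟩ := exists_corner (by norm_num) hg (Δ := 1) one_ne_zero
  obtain ⟨R, hR⟩ := exists_gl (M := A) (by rw [hAdet]; exact one_ne_zero)
  obtain ⟨T, S, hT, hS, e, hCS, -⟩ := gauss htg R hR
  have hS0 : S ≠ 0 := by
    rintro rfl
    exact hC (by rw [hCS, Matrix.mul_zero])
  obtain ⟨hdet, hcomm⟩ := comp_all (A 0 0) (A 0 1) (A 1 0) (A 1 1) (by rw [← hAdet, Matrix.det_fin_two])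
    (by
      rintro ⟨h1, h2, h3⟩
      apply hAns (A 0 0)
      ext i j
      fin_cases i <;> fin_cases j <;> simp [h1, h2, h3])
  have hAe : !![A 0 0, A 0 1; A 1 0, A 1 1] = A := by
    ext i j
    fin_cases i <;> fin_cases j <;> rfl
  rw [hAe] at hcomm
  have hd0 : (cW (A 0 0) (A 0 1) (A 1 0) (A 1 1)).det ≠ 0 := by
    rw [Matrix.det_fin_two]
    exact hdet
  obtain ⟨W, hW⟩ := exists_gl hd0
  obtain ⟨K, hK⟩ : ∃ K : GL (Fin 2) (ZMod 3), (K : Matrix (Fin 2) (Fin 2) (ZMod 3)) = cA (A 0 0 + A 1 1) :=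
    exists_gl (by rw [cA, Matrix.det_fin_two_of]; simp)
  have hRe : R = W * K * W⁻¹ := by
    rw [eq_mul_inv_iff_mul_eq]
    apply Units.ext
    rw [Units.val_mul, Units.val_mul, hR, hW, hK, hcomm]
  have hup := lv_up W⁻¹ hS
  rw [map_inv, inv_inv] at hup
  obtain ⟨S', hS'⟩ : ∃ S', S' = ((W⁻¹ : GL (Fin 2) (ZMod 3)) : Matrix (Fin 2) (Fin 2) (ZMod 3)) * S *
    ((W⁻¹ : GL (Fin 2) (ZMod 3)) : Matrix (Fin 2) (Fin 2) (ZMod 3))ᵀ := ⟨_, rfl⟩
  have hS's : S'ᵀ = S' := by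
    rw [hS', transpose_mul, transpose_mul, transpose_transpose, hS, Matrix.mul_assoc]
  have hup' : (lv W)⁻¹ * up S hS * lv W = up S' hS's := by
    rw [hup]
    exact up_congr _ hS'.symm
  have hS'0 : S' ≠ 0 := by
    rintro rfl
    rw [up_zero] at hup'
    have h1 : up S hS = 1 := by
      have h2 : up S hS = lv W * ((lv W)⁻¹ * up S hS * lv W) * (lv W)⁻¹ := by group
      rw [h2, hup']; group
    have h2 := h1.trans up_zero.symm
    exact hS0 (up_inj h2)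
  have hlm : (lv W)⁻¹ * lo T hT * lv W ∈ Lo 2 (ZMod 3) := by
    have := Lo_conj W⁻¹ (lo_mem hT)
    rwa [map_inv, inv_inv] at this
  obtain ⟨u, v, z, hu, hv, hz, huv⟩ := fac_normal _ hK hS's hS'0 hlm
  obtain ⟨p, rfl⟩ := conj_five hx hu hc
  obtain ⟨q, rfl⟩ := conj_five hx hv hc
  refine ⟨t⁻¹ * lv W * p, t⁻¹ * lv W * q, z, hz, ?_⟩
  have e2 : g = t⁻¹ * (lv W * (((lv W)⁻¹ * lo T hT * lv W) * lv K * ((lv W)⁻¹ * up S hS * lv W)) * (lv W)⁻¹) * t := by
    have e3 : lv W * (((lv W)⁻¹ * lo T hT * lv W) * lv K * ((lv W)⁻¹ * up S hS * lv W)) * (lv W)⁻¹ = t * g * t⁻¹ := by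
      rw [e, hRe]; simp only [map_mul, map_inv]; group
    rw [e3]; group
  rw [hup', huv] at e2
  rw [e2]
  have h4 := Subgroup.mem_center_iff.1 hz
  have h5 : ∀ w r : G 2 (ZMod 3), t⁻¹ * (lv W * (z * w) * (lv W)⁻¹) * t = z * ((t⁻¹ * lv W) * w * (t⁻¹ * lv W)⁻¹) := by
    intro w _
    calc t⁻¹ * (lv W * (z * w) * (lv W)⁻¹) * t = (t⁻¹ * lv W * z) * (w * (t⁻¹ * lv W)⁻¹) := by group
      _ = z * (t⁻¹ * lv W) * (w * (t⁻¹ * lv W)⁻¹) := by rw [h4]
      _ = _ := by group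
  rw [h5 _ 1]
  group

/-- **`PSp_4(3)`**: every nonidentity element is a product of two conjugates of an element of order five -/
theorem exists_five {F : Type*} [Field F] [Finite F] (h3 : Nat.card F = 3) : ∃ x : Cfsg.PSp 2 F, orderOf x = 5 ∧
    ∀ g : Cfsg.PSp 2 F, g ≠ 1 → ∃ u v : Cfsg.PSp 2 F, g = (u * x * u⁻¹) * (v * x * v⁻¹) := by
  have := Fintype.ofFinite F
  have : Fact (Nat.Prime 3) := ⟨Nat.prime_three⟩
  have : Fact (Nat.Prime 5) := ⟨by norm_num⟩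
  let φ : ZMod 3 ≃+* F := ZMod.ringEquivOfPrime F Nat.prime_three (by rw [← Nat.card_eq_fintype_card, h3])
  let e : G 2 (ZMod 3) ≃* G 2 F := gmap 2 φ
  obtain ⟨x, c, hx, hc, h⟩ := two_sp43
  have hcen : ∀ z : G 2 (ZMod 3), z ∈ Subgroup.center (G 2 (ZMod 3)) → (QuotientGroup.mk (e z) : Cfsg.PSp 2 F) = 1 := by
    intro z hz
    refine (QuotientGroup.eq_one_iff _).2 ?_
    rw [Subgroup.mem_center_iff] at hz ⊢
    intro k
    apply e.symm.injective
    rw [map_mul, map_mul, e.symm_apply_apply, hz]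
  refine ⟨QuotientGroup.mk (e x), ?_, fun g hg => ?_⟩
  · refine orderOf_eq_prime ?_ ?_
    · rw [← QuotientGroup.mk_pow, ← map_pow, ← hx, pow_orderOf_eq_one, map_one]
      rfl
    · intro h1
      have h2 := (QuotientGroup.eq_one_iff _).1 h1
      rw [Subgroup.mem_center_iff] at h2
      have h4 : c * x = x * c := by
        apply e.injective
        rw [map_mul, map_mul, h2]
      rw [h4, mul_inv_cancel_right, pow_two, left_eq_mul] at hc
      rw [hc, orderOf_one] at hx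
      omega
  · obtain ⟨g, rfl⟩ := QuotientGroup.mk_surjective g
    obtain ⟨u, v, z, hz, huv⟩ := h (e.symm g) (by
      intro hcc
      apply hg
      rw [← hcen _ hcc, e.apply_symm_apply])
    refine ⟨QuotientGroup.mk (e u), QuotientGroup.mk (e v), ?_⟩
    have h5 : g = e z * ((e u * e x * (e u)⁻¹) * (e v * e x * (e v)⁻¹)) := by
      apply e.symm.injective
      rw [huv]
      simp
    rw [h5]
    have h6 := hcen z hz
    rw [QuotientGroup.mk_mul, h6, one_mul]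
    rfl

/-- **`PSp_4(3)`** -/
theorem row3_psp43 {F : Type*} [Field F] [Finite F] (h3 : Nat.card F = 3) : H210.TC.Row3 (Cfsg.PSp 2 F) := by
  obtain ⟨x, hx, h⟩ := exists_five h3
  exact H210.TC.Row3.of_sq (by rw [hx]; norm_num) (by rw [hx]; norm_num) h

/-- **`PSp_4(3)`** -/
theorem six_psp43 {F : Type*} [Field F] [Finite F] (h3 : Nat.card F = 3) : ∃ x y : Cfsg.PSp 2 F,
    Nat.Coprime (orderOf x) 6 ∧ Nat.Coprime (orderOf y) 6 ∧
      ∀ g : Cfsg.PSp 2 F, g ≠ 1 → ∃ u v : Cfsg.PSp 2 F, g = (u * x * u⁻¹) * (v * y * v⁻¹) :=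
  (row3_psp43 h3).s2464

end Cfsg.Agent.H910.TC
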